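import Mathlib
import Cfsg.Agent.ClassSp.Order
import Cfsg.Agent.ClassBase.RelHom
import Cfsg.Agent.ClassBase.SmallIso

set_option autoImplicit false
set_option linter.unusedVariables false
set_option linter.unusedSectionVars false

/-! `Sp_4(2) ≅ S_6`. -/

namespace Cfsg.Agent.ClassSp

open Matrix Equiv

/-- Transport of the symplectic group along a ring isomorphism. -/
noncomputable def spCongr {l : Type*} [Fintype l] [DecidableEq l] {R S : Type*} [CommRing R] [CommRing S]
    (e : R ≃+* S) : symplecticGroup l R ≃* symplecticGroup l S where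
  toFun g := ⟨(g : Matrix (l ⊕ l) (l ⊕ l) R).map e, SymplecticGroup.map_mem g.2 e⟩
  invFun g := ⟨(g : Matrix (l ⊕ l) (l ⊕ l) S).map e.symm, SymplecticGroup.map_mem g.2 e.symm⟩
  left_inv g := by
    apply Subtype.ext
    ext i j
    simp
  right_inv g := by
    apply Subtype.ext
    ext i j
    simp
  map_mul' g h := by
    apply Subtype.ext
    simp [Matrix.map_mul]

/-- The natural action on vectors. -/
@[reducible] def spAction (l : Type*) [Fintype l] [DecidableEq l] (R : Type*) [CommRing R] :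
    MulAction (symplecticGroup l R) (l ⊕ l → R) where
  smul g v := (g : Matrix (l ⊕ l) (l ⊕ l) R) *ᵥ v
  one_smul v := one_mulVec' v
  mul_smul g h v := mul_mulVec g h v

namespace Sp42

abbrev V := Fin 2 ⊕ Fin 2 → ZMod 2

/-- Pairs attached to the 15 nonzero vectors. -/
def tab : List (Fin 6 × Fin 6) :=
  [(0, 0), (4, 5), (3, 4), (3, 5), (1, 2), (0, 3), (0, 5), (0, 4), (0, 1), (2, 3), (2, 5), (2, 4),
    (0, 2), (1, 3), (1, 5), (1, 4)]

def pr (x : V) : Fin 6 × Fin 6 :=
  tab.getD (8 * (x (Sum.inl 0)).val + 4 * (x (Sum.inr 0)).val + 2 * (x (Sum.inl 1)).val +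
    (x (Sum.inr 1)).val) (0, 0)

def rel (x : V) (a : Fin 6) : Bool := decide (a = (pr x).1) || decide (a = (pr x).2)

/-- computable version of the form -/
def sfc (u v : V) : ZMod 2 := (u (Sum.inl 0) * v (Sum.inr 0) - u (Sum.inr 0) * v (Sum.inl 0)) +
  (u (Sum.inl 1) * v (Sum.inr 1) - u (Sum.inr 1) * v (Sum.inl 1))

lemma sf_eq (u v : V) : sf u v = sfc u v := by
  simp [sf, sfc, Fin.sum_univ_two]
  ring

lemma check : ∀ w x : V, w ≠ 0 → x ≠ 0 → ∀ a, rel (x + (1 * sfc x w) • w) (swap (pr w).1 (pr w).2 a) = rel x a := by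
  decide +kernel

set_option synthInstance.maxHeartbeats 2000000 in
set_option synthInstance.maxSize 4000 in
lemma inj' : ∀ x y : V, x ≠ 0 → y ≠ 0 → y ≠ x → ∃ a, rel y a ≠ rel x a := by
  decide +kernel

lemma inj (x y : V) (hx : x ≠ 0) (hy : y ≠ 0) (h : ∀ a, rel y a = rel x a) : y = x := by
  by_contra hne
  obtain ⟨a, ha⟩ := inj' x y hx hy hne
  exact ha (h a)

lemma sep : ∀ a b : Fin 6, (∀ x : V, x ≠ 0 → rel x a = rel x b) → a = b := by
  decide +kernel

def gens : Set (symplecticGroup (Fin 2) (ZMod 2)) := {g | ∃ w : V, w ≠ 0 ∧ g = tv w 1}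

lemma closure_gens : Subgroup.closure gens = ⊤ := by
  rw [eq_top_iff, ← tvGroup_eq_top (F := ZMod 2) (Fin 2), tvGroup, Subgroup.closure_le]
  rintro _ ⟨w, c, rfl⟩
  rw [SetLike.mem_coe]
  have hc : c = 0 ∨ c = 1 := by
    revert c; decide
  rcases hc with rfl | rfl
  · rw [tv_zero]; exact one_mem _
  · by_cases hw : w = 0
    · have : tv w (1 : ZMod 2) = 1 := by
        apply ext_vec; intro v; rw [tv_mulVec, one_mulVec', hw]; simp
      rw [this]; exact one_mem _
    · exact Subgroup.subset_closure ⟨w, hw, rfl⟩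

theorem main : Nonempty (symplecticGroup (Fin 2) (ZMod 2) ≃* Perm (Fin 6)) := by
  letI := spAction (Fin 2) (ZMod 2)
  have hsm : ∀ (g : symplecticGroup (Fin 2) (ZMod 2)) (v : V),
      g • v = (g : Matrix (Fin 2 ⊕ Fin 2) (Fin 2 ⊕ Fin 2) (ZMod 2)) *ᵥ v := fun g v => rfl
  have hne : ∀ (g : symplecticGroup (Fin 2) (ZMod 2)) (v : V), (g • v ≠ 0 ↔ v ≠ 0) := by
    intro g v
    rw [not_iff_not]
    constructor
    · intro h
      rw [hsm] at h
      rw [← inv_mulVec_mulVec g v, h, Matrix.mulVec_zero]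
    · intro h
      rw [hsm, h, Matrix.mulVec_zero]
  obtain ⟨φ, hφ⟩ := ClassBase.exists_hom_rel (G := symplecticGroup (Fin 2) (ZMod 2)) (X := V)
    (fun x => x ≠ 0) rel gens closure_gens ⊤ (by
      rintro _ ⟨w, hw, rfl⟩
      refine ⟨swap (pr w).1 (pr w).2, trivial, fun x => ⟨hne _ _, fun hx a => ?_⟩⟩
      rw [hsm, tv_mulVec, sf_eq]
      exact check w x hw hx a) sep
  have hinj : Function.Injective φ := by
    rw [injective_iff_map_eq_one]
    intro g hg
    apply ext_vec
    intro v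
    rw [one_mulVec']
    by_cases hv : v = 0
    · rw [hv, Matrix.mulVec_zero]
    · apply inj v _ hv ((hne g v).2 hv)
      intro a
      have := hφ g v hv a
      rw [hg] at this
      exact this
  refine ClassBase.equiv_perm_of_injective ((Subgroup.subtype ⊤).comp φ)
    (Subtype.val_injective.comp hinj) ?_
  rw [card_fin, ZMod.card]
  decide

end Sp42

end Cfsg.Agent.ClassSp
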